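import Cfsg.Agent.H6.Diag2

/-! Imprimitive maximal subgroups of `SL_4(q)`. -/

set_option autoImplicit false
set_option linter.unusedSimpArgs false
set_option linter.unusedSectionVars false
set_option linter.unusedVariables false

namespace Cfsg.Agent.H9.L4

open Module Cfsg.Agent.H6

attribute [-simp] LinearEquiv.coe_inv Submodule.mem_map_equiv

variable {F : Type*} [Field F] {ι : Type} [Fintype ι] [DecidableEq ι]
  {M : Subgroup ((ι → F) ≃ₗ[F] (ι → F))}

section Main

variable [Fintype F] (hq : 5 ≤ Fintype.card F) (hn : 4 ≤ Fintype.card ι) (hM : M ≤ SLV F (ι → F))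
  (hH : ∀ g ∈ SLV F (ι → F), g ∈ monoSub F ι F → g ∈ M) (hne : ¬ SLV F (ι → F) ≤ M)
include hq hn hM hH hne

theorem eq_of_mod4 {o : ι} {a b : (ι → F) ≃ₗ[F] (ι → F)} (ha : a ∈ M) (hb : b ∈ M)
    (h : ∀ v, ∀ i ≠ o, a v i = b v i) : a = b := by
  have hg := M.mul_mem ha (M.inv_mem hb)
  obtain ⟨φ, h1, -, h2⟩ := eq_tv_of_triv (o := o) (hM hg) fun v i hi => by
    rw [LinearEquiv.mul_apply, h _ i hi, apply_inv_apply]
  by_cases hφ : φ = 0
  · rw [← mul_inv_eq_one]
    exact LinearEquiv.ext fun v => by rw [h2]; simp [hφ]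
  exfalso
  apply hne
  obtain ⟨j, hj⟩ := exists_single_ne hφ
  have hjo : j ≠ o := by rintro rfl; exact hj h1
  obtain ⟨k, hko, hkj⟩ := exists_third (by omega) o j
  obtain ⟨l, hlo, hlj, hlk⟩ := exists_fourth (by omega) o j k
  obtain ⟨t, ht0, ht1, -⟩ := exists_gen hq
  have step : ∀ (χ : Dual F (ι → F)) (k : ι) (c : F) (hc : c ≠ 0), k ≠ o → k ≠ j →
      χ (Pi.single o 1) = 0 → HasT M (Pi.single o 1) χ →
      HasT M (Pi.single o 1) (((c - 1) * χ (Pi.single j 1)) • co j +
        ((c⁻¹ - 1) * χ (Pi.single k 1)) • co k) := by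
    intro χ k c hc hko hkj h0 hT
    have e1 : dd j k c hc (Pi.single o 1) = Pi.single o 1 := by
      ext i
      rw [dd_apply hkj.symm]
      by_cases hi : i = o
      · simp [hi, hjo.symm, hko.symm]
      · simp [hi]
    have e2 : (dd j k c hc)⁻¹ (Pi.single o 1) = Pi.single o 1 :=
      (dd j k c hc).injective (by rw [apply_inv_apply, e1])
    have := hT.conj (M.inv_mem (dd_mem hH j k c hc))
      (ψ := χ ∘ₗ (dd j k c hc : (ι → F) →ₗ[F] (ι → F))) (fun v => by simp)
    rw [e2] at this
    refine (this.sub_right hT (by simp [e1, h0]) h0).congr fun v => ?_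
    congr 1
    simp only [dd, dg, LinearMap.sub_apply, LinearMap.comp_apply, LinearEquiv.coe_coe,
      LinearEquiv.mul_apply, hom_apply, map_add, map_smul, co_apply, Pi.add_apply, Pi.smul_apply,
      Pi.single_apply, hkj.symm, if_false, smul_eq_mul, LinearMap.add_apply, LinearMap.smul_apply]
    ring
  have h3 := step φ k t ht0 hko hkj h1 ⟨_, hg, h2⟩
  have h4 : (t - 1) * φ (Pi.single j 1) ≠ 0 := mul_ne_zero (sub_ne_zero.2 ht1) hj
  refine SLV_le_of_co hH hjo.symm (hasT_all_of_ne (by omega) (by simp [hjo])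
    (-((t - 1) * φ (Pi.single j 1))) fun c hc => ?_)
  have := step _ l (c / ((t - 1) * φ (Pi.single j 1)) + 1) (by
    intro h
    apply hc
    field_simp at h
    linear_combination h) hlo hlj (by simp [hjo, hko]) h3
  refine this.congr fun v => ?_
  congr 1
  simp [hlj.symm, hlk.symm, hkj, div_mul_cancel₀ _ h4]

theorem mono_of_fixes4 {o : ι} {z : (ι → F) ≃ₗ[F] (ι → F)} (hz : z ∈ M)
    (hzo : ∀ i ≠ o, z (Pi.single o 1) i = 0) : z ∈ monoSub F ι F := by
  let res : (ι → F) →ₗ[F] ({i // i ≠ o} → F) := LinearMap.funLeft F F Subtype.val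
  have hres : ∀ x (i : {i // i ≠ o}), res x i = x i := fun _ _ => rfl
  let ext : ({i // i ≠ o} → F) →ₗ[F] (ι → F) :=
    { toFun := fun y i => if h : i = o then 0 else y ⟨i, h⟩
      map_add' := fun y y' => by ext i; by_cases h : i = o <;> simp [h]
      map_smul' := fun c y => by ext i; by_cases h : i = o <;> simp [h] }
  have hre : ∀ y, res (ext y) = y := fun y => by ext i; simp [hres, ext, i.2]
  have her : ∀ x, ext (res x) = x - x o • (Pi.single o 1 : ι → F) := fun x => by
    ext i; by_cases h : i = o <;> simp [h, ext, hres]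
  let N : Subgroup (({i // i ≠ o} → F) ≃ₗ[F] ({i // i ≠ o} → F)) :=
    { carrier := {k | ∃ g ∈ M, ∀ x, k (res x) = res (g x)}
      one_mem' := ⟨1, M.one_mem, fun _ => rfl⟩
      mul_mem' := by
        rintro a b ⟨g, hg, h1⟩ ⟨k, hk, h2⟩
        exact ⟨g * k, M.mul_mem hg hk, fun x => by simp [h1, h2]⟩
      inv_mem' := by
        rintro a ⟨g, hg, h1⟩
        exact ⟨g⁻¹, M.inv_mem hg, fun x => a.injective (by
          rw [apply_inv_apply, h1, apply_inv_apply])⟩ }
  have bar : ∀ g : (ι → F) ≃ₗ[F] (ι → F), (∀ i ≠ o, g (Pi.single o 1) i = 0) →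
      ∃ k : ({i // i ≠ o} → F) ≃ₗ[F] ({i // i ≠ o} → F), ∀ x, k (res x) = res (g x) := by
    intro g hg
    have h1 : res (g (Pi.single o 1)) = 0 := funext fun i => hg i i.2
    have h2 : ∀ x, res (g (ext (res x))) = res (g x) := fun x => by simp [her, h1]
    refine ⟨LinearEquiv.ofInjectiveEndo (res ∘ₗ (g : (ι → F) →ₗ[F] (ι → F)) ∘ₗ ext) ?_, h2⟩
    rw [injective_iff_map_eq_zero]
    intro y hy
    have h3 : g (ext y) = (g (ext y) o / g (Pi.single o 1) o) • g (Pi.single o 1) := by
      ext i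
      by_cases hi : i = o
      · have : g (Pi.single o 1) o ≠ 0 := by
          intro h4
          have : g (Pi.single o 1) = 0 := funext fun i => by
            by_cases hi : i = o
            · rw [hi, h4]; rfl
            · exact hg i hi
          simp at this
        simp [hi, this]
      · have : g (ext y) i = 0 := congrFun hy ⟨i, hi⟩
        simp [this, hg i hi]
    rw [← map_smul] at h3
    rw [← hre y, g.injective h3]
    ext i
    simp [hres, i.2]
  obtain ⟨t, ht0, ht1, -, ht2, ht3⟩ := exists_gen hq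
  obtain ⟨k, hk⟩ := bar z hzo
  by_cases hkm : k ∈ monoSub F {i // i ≠ o} F
  · obtain ⟨σ, A, hA⟩ := hkm
    have hA' : ∀ x (i : {i // i ≠ o}), z x (σ i) = A i (x i) := fun x i => by
      rw [← hres (z x), ← hk, hA, hres]
    refine mono_of_weak fun i => ?_
    by_cases hi : i = o
    · exact ⟨o, fun w l hl => by rw [single_eq_smul, map_smul, hi]; simp [hzo l hl]⟩
    refine ⟨σ ⟨i, hi⟩, fun w l hl => ?_⟩
    by_cases hlo : l = o
    · have := eq_of_mod4 hq hn hM hH hne (o := o) (M.mul_mem hz (dd_mem hH i o t ht0))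
        (M.mul_mem (dd_mem hH (σ ⟨i, hi⟩) o t ht0) hz) fun v m hm => by
          obtain ⟨m', hm'⟩ := σ.surjective ⟨m, hm⟩
          obtain rfl : (σ m' : ι) = m := congrArg Subtype.val hm'
          simp only [LinearEquiv.mul_apply, hA', dd_apply hi, dd_apply (σ ⟨i, hi⟩).2, m'.2, hm,
            if_false]
          by_cases h : m' = ⟨i, hi⟩
          · simp [h, lin_apply (A _) (t * _), lin_apply (A _) (v i), mul_assoc]
          · have h' : (m' : ι) ≠ i := fun h' => h (Subtype.ext h')
            have h'' : (σ m' : ι) ≠ σ ⟨i, hi⟩ := fun h'' => h (σ.injective (Subtype.ext h''))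
            simp [h', h'']
      have h1 := congrFun (LinearEquiv.congr_fun this (Pi.single i w)) o
      have h2 : dd i o t ht0 (Pi.single i w) = t • Pi.single i w := by
        ext m
        by_cases hm : m = i <;> simp [dd_apply hi, hm]
      simp only [LinearEquiv.mul_apply, h2, map_smul, Pi.smul_apply, smul_eq_mul,
        dd_apply (σ ⟨i, hi⟩).2, (σ ⟨i, hi⟩).2.symm, if_false, if_true] at h1
      rw [hlo]
      by_contra h3
      apply ht2
      have := mul_right_cancel₀ h3 h1
      field_simp at this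
      exact this
    · obtain ⟨m', hm'⟩ := σ.surjective ⟨l, hlo⟩
      obtain rfl : (σ m' : ι) = l := congrArg Subtype.val hm'
      have : (m' : ι) ≠ i := by
        rintro rfl
        exact hl rfl
      simp [hA', this]
  exfalso
  apply hne
  obtain ⟨i, j, hij, hF⟩ := gl_mono_core (M := N) hq (by simp; omega) (fun i c hc => by
      have hc' : c + 1 ≠ 0 := by simpa [add_comm] using hc
      refine ⟨dg i _ hc', ⟨_, dd_mem hH i o _ hc', fun x => ?_⟩, fun x => by simp [dg, hom_apply]⟩
      ext m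
      simp only [dg_apply, hres, dd_apply i.2, m.2, if_false, Subtype.ext_iff])
    (fun σ => by
      obtain ⟨g, hg, A, hA⟩ := exists_mono_perm (F := F) (W := F) (Equiv.Perm.ofSubtype σ)
      obtain ⟨k, hk⟩ := bar g (by
        intro i hi
        rw [mono_single hA, Equiv.Perm.ofSubtype_apply_of_not_mem σ (by simp)]
        simp [hi])
      refine ⟨k, ⟨g, hH g hg ⟨_, A, hA⟩, hk⟩, fun i => A i, fun x i => ?_⟩
      rw [← hre x, hk, hres, hres, ← hA, Equiv.Perm.ofSubtype_apply_coe])
    ⟨z, hz, hk⟩ hkm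
  have hij' : (i : ι) ≠ j := fun h => hij (Subtype.ext h)
  refine SLV_le_of_co hH hij' fun s => ?_
  obtain ⟨_, ⟨u, hu, hu'⟩, h1⟩ := hF s (by simp [hij.symm])
  have h2 : ∀ x, ∀ m ≠ o, u x m = x m + (s * x j) * (Pi.single (i : ι) 1 : ι → F) m := by
    intro x m hm
    have := congrFun ((hu' x).symm.trans (h1 _)) ⟨m, hm⟩
    simpa [hres, Pi.single_apply, Subtype.ext_iff] using this
  have h3 : ∀ D ∈ M, ∀ δ : ι → F, (∀ x m, D x m = δ m * x m) → δ i = δ j → ∀ k, δ k ≠ δ o →
      u (Pi.single k 1) o = 0 := by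
    intro D hD δ hδ h4 k h5
    have := eq_of_mod4 hq hn hM hH hne (o := o) (M.mul_mem hu hD) (M.mul_mem hD hu) fun v m hm => by
      simp only [LinearEquiv.mul_apply, h2 _ m hm, hδ]
      by_cases h : m = i
      · simp [h, h4]; ring
      · simp [h]
    have h6 := congrFun (LinearEquiv.congr_fun this (Pi.single k 1)) o
    have h7 : D (Pi.single k 1) = δ k • Pi.single k 1 := by
      ext m
      by_cases hm : m = k <;> simp [hδ, hm]
    simp only [LinearEquiv.mul_apply, h7, map_smul, Pi.smul_apply, smul_eq_mul, hδ] at h6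
    by_contra h8
    exact h5 (mul_right_cancel₀ h8 h6)
  have h4 : ∀ k ≠ o, u (Pi.single k 1) o = 0 := by
    intro k hk
    by_cases h5 : k = i ∨ k = j
    · refine h3 _ (M.mul_mem (dd_mem hH i o t ht0) (dd_mem hH j o t ht0))
        (fun m => if m = o then t⁻¹ * t⁻¹ else if m = i ∨ m = j then t else 1) (fun x m => ?_)
        (by simp [i.2, j.2]) k ?_
      · simp only [LinearEquiv.mul_apply, dd_apply i.2, dd_apply j.2]
        by_cases e1 : m = o
        · simp [e1, i.2.symm, j.2.symm, mul_assoc]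
        by_cases e2 : m = i
        · simp [e2, i.2, hij']
        by_cases e3 : m = j
        · simp [e3, j.2, hij'.symm]
        simp [e1, e2, e3]
      · simp only [hk, h5, if_false, if_true]
        intro h
        apply ht3
        field_simp at h
        exact h
    · push Not at h5
      refine h3 _ (dd_mem hH k o t ht0) (fun m => if m = k then t else if m = o then t⁻¹ else 1)
        (fun x m => ?_) (by simp [i.2, j.2, h5.1.symm, h5.2.symm]) k ?_
      · rw [dd_apply hk]
        split_ifs <;> simp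
      · simp only [hk.symm, if_false, if_true]
        intro h
        apply ht2
        field_simp at h
        exact h
  have h0 : (s • co (j : ι) : Dual F (ι → F)) (Pi.single (i : ι) 1) = 0 := by simp [hij'.symm]
  obtain ⟨φ, k1, k2, k3⟩ := eq_tv_of_triv (o := o)
    ((SLV F _).mul_mem ((SLV F _).inv_mem (tv_mem_SLV _ _ h0)) (hM hu)) fun v m hm => by
      simp [tv_inv_apply, h2 _ m hm, h2 _ j j.2, hij'.symm]
  have k4 : φ = 0 := by
    by_contra k5
    obtain ⟨k, hk⟩ := exists_single_ne k5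
    have : k ≠ o := fun h => hk (h ▸ k1)
    apply hk
    simp [k2, tv_inv_apply, h4 k this, i.2.symm, this.symm]
  refine ⟨u, hu, fun x => ?_⟩
  have := k3 x
  rw [k4, LinearMap.zero_apply, zero_smul, add_zero, LinearEquiv.mul_apply] at this
  rw [← tv_apply _ _ h0, ← apply_inv_apply (tv _ _ h0) (u x), this]

theorem mono_of_col4 {z : (ι → F) ≃ₗ[F] (ι → F)} (hz : z ∈ M) {i j : ι}
    (h : ∀ l ≠ j, z (Pi.single i 1) l = 0) : z ∈ monoSub F ι F := by
  obtain ⟨g, hg, A, hA⟩ := exists_mono_perm (F := F) (W := F) (Equiv.swap i j)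
  have := mono_of_fixes4 hq hn hM hH hne (o := j) (M.mul_mem hz (hH g hg ⟨_, A, hA⟩)) fun l hl => by
    rw [LinearEquiv.mul_apply, mono_single hA, Equiv.swap_apply_right, single_eq_smul, map_smul]
    simp [h l hl]
  simpa using mul_mem this (inv_mem (show g ∈ monoSub F ι F from ⟨_, A, hA⟩))

end Main

end Cfsg.Agent.H9.L4
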